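import Mathlib
import Cfsg.Agent.Spor.Comp.Basic

/-!
Permutations of `ℕ` given by networks of masked bit swaps. A network acts on a whole bit vector (a natural
number) with a handful of big-number operations per stage, so that the kernel can move all points of a large
permutation domain at once. `app net x` is the pull-back of the bit vector `x` along the permutation
`nperm net`, and `appInv net x` is its push-forward. Big values are never forced to numerals (numerals hash by their
low 64 bits only); use `set_option maxRecDepth 100000000` in files that run long computations.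
-/

set_option autoImplicit false

namespace Cfsg.Agent.Spor.BN

open Cfsg.Agent.Spor

/-- Exchange the bits `i` and `i + δ` of `x` for every bit `i` set in `m`. -/
noncomputable def swp (δ m x : ℕ) : ℕ :=
  (fun t => Nat.xor (Nat.xor x t) (Nat.shiftLeft t δ)) (Nat.land (Nat.xor (Nat.shiftRight x δ) x) m)

/-- The exchange of positions performed by `swp δ m`. -/
def spos (δ m i : ℕ) : ℕ :=
  if m.testBit i then i + δ else if δ ≤ i ∧ m.testBit (i - δ) then i - δ else i

theorem swp_eq (δ m x : ℕ) :
    swp δ m x = (x ^^^ (((x >>> δ) ^^^ x) &&& m)) ^^^ ((((x >>> δ) ^^^ x) &&& m) <<< δ) := rfl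

/-- The pairs exchanged by a stage are disjoint. -/
def SDisj (δ m : ℕ) : Prop := ∀ i, m.testBit i = true → m.testBit (i + δ) = false

theorem testBit_swp {δ m : ℕ} (h : SDisj δ m) (x i : ℕ) :
    (swp δ m x).testBit i = x.testBit (spos δ m i) := by
  rw [swp_eq]
  simp only [Nat.testBit_xor, Nat.testBit_and, Nat.testBit_shiftLeft, Nat.testBit_shiftRight, spos]
  by_cases h1 : m.testBit i = true
  · have h2 : ¬ (δ ≤ i ∧ m.testBit (i - δ) = true) := by
      rintro ⟨h3, h4⟩
      have := h _ h4
      rw [Nat.sub_add_cancel h3, h1] at this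
      exact absurd this (by simp)
    rw [if_pos h1, h1, add_comm i δ]
    by_cases h3 : δ ≤ i
    · have h4 : m.testBit (i - δ) = false := by
        cases h5 : m.testBit (i - δ)
        · rfl
        · exact absurd ⟨h3, h5⟩ h2
      rw [h4]
      cases x.testBit i <;> cases x.testBit (δ + i) <;> simp
    · cases x.testBit i <;> cases x.testBit (δ + i) <;> simp [h3]
  · rw [if_neg h1]
    have h1' : m.testBit i = false := by simpa using h1
    rw [h1']
    by_cases h2 : δ ≤ i ∧ m.testBit (i - δ) = true
    · rw [if_pos h2, h2.2, Nat.add_sub_cancel' h2.1]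
      cases x.testBit i <;> cases x.testBit (i - δ) <;> simp [h2.1]
    · rw [if_neg h2]
      by_cases h3 : δ ≤ i
      · have h4 : m.testBit (i - δ) = false := by
          cases h5 : m.testBit (i - δ)
          · rfl
          · exact absurd ⟨h3, h5⟩ h2
        rw [h4]; simp
      · simp [h3]

theorem spos_spos {δ m : ℕ} (h : SDisj δ m) (i : ℕ) : spos δ m (spos δ m i) = i := by
  by_cases h1 : m.testBit i = true
  · have e : spos δ m i = i + δ := by simp [spos, h1]
    rw [e]
    have h2 := h i h1
    simp [spos, h2, h1]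
  · by_cases h2 : δ ≤ i ∧ m.testBit (i - δ) = true
    · have e : spos δ m i = i - δ := by simp [spos, h1, h2]
      rw [e]
      simp only [spos, h2.2, if_true]
      omega
    · have e : spos δ m i = i := by
        unfold spos
        rw [if_neg h1, if_neg h2]
      rw [e, e]

open Classical in
/-- The permutation of `ℕ` performed by a stage (the identity if the stage is malformed). -/
noncomputable def sperm (s : ℕ × ℕ) : Equiv.Perm ℕ :=
  if h : SDisj s.1 s.2 then Function.Involutive.toPerm (spos s.1 s.2) (spos_spos h) else 1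

theorem sperm_apply {s : ℕ × ℕ} (h : SDisj s.1 s.2) (i : ℕ) : sperm s i = spos s.1 s.2 i := by
  unfold sperm
  rw [dif_pos h]
  rfl

theorem sperm_inv (s : ℕ × ℕ) : (sperm s)⁻¹ = sperm s := by
  unfold sperm
  split_ifs with h
  · rfl
  · simp

/-- A network: a list of stages `(δ, m)`. -/
abbrev Net : Type := List (ℕ × ℕ)

/-- The permutation of `ℕ` performed by a network. -/
noncomputable def nperm (net : Net) : Equiv.Perm ℕ := (net.map sperm).prod

@[simp] theorem nperm_nil : nperm [] = 1 := rfl

@[simp] theorem nperm_cons (s : ℕ × ℕ) (net : Net) : nperm (s :: net) = sperm s * nperm net := by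
  simp [nperm]

/-- Pull the bit vector `x` back along the network. -/
noncomputable def app (net : Net) : ℕ → ℕ :=
  List.rec (motive := fun _ => ℕ → ℕ) (fun x => x)
    (fun s _ ih x => ih (swp s.1 s.2 x)) net

/-- Push the bit vector `x` forward along the network. -/
noncomputable def appInv (net : Net) (x : ℕ) : ℕ :=
  List.rec (motive := fun _ => ℕ) x (fun s _ ih => swp s.1 s.2 ih) net

theorem app_cons (s : ℕ × ℕ) (net : Net) (x : ℕ) : app (s :: net) x = app net (swp s.1 s.2 x) := rfl

theorem appInv_cons (s : ℕ × ℕ) (net : Net) (x : ℕ) :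
    appInv (s :: net) x = swp s.1 s.2 (appInv net x) := rfl

/-- Every stage is well formed and moves only positions below `D`. -/
def Valid (D : ℕ) (net : Net) : Prop :=
  ∀ s ∈ net, SDisj s.1 s.2 ∧ ∀ i, s.2.testBit i = true → i + s.1 < D

/-- Boolean test for `Valid`. -/
noncomputable def validB (D : ℕ) (net : Net) : Bool :=
  allL net fun s => band (Nat.beq (Nat.land s.2 (Nat.shiftLeft s.2 s.1)) 0)
    (Nat.beq (Nat.shiftRight (Nat.shiftLeft s.2 s.1) D) 0)

theorem valid_of_validB {D : ℕ} {net : Net} (h : validB D net = true) : Valid D net := by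
  intro s hs
  have h1 := (allL_iff _ _).1 h s hs
  simp only [band_iff, nbeq_iff] at h1
  obtain ⟨h2, h3⟩ := h1
  change s.2 &&& (s.2 <<< s.1) = 0 at h2
  change (s.2 <<< s.1) >>> D = 0 at h3
  refine ⟨fun i hi => ?_, fun i hi => ?_⟩
  · have := congrArg (fun n => Nat.testBit n (i + s.1)) h2
    simp only [Nat.testBit_and, Nat.testBit_shiftLeft, Nat.zero_testBit, ge_iff_le, le_add_iff_nonneg_left,
      zero_le, decide_true, Nat.add_sub_cancel, hi, Bool.and_true] at this
    exact this
  · by_contra hc
    have := congrArg (fun n => Nat.testBit n (i + s.1 - D)) h3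
    simp only [Nat.testBit_shiftRight, Nat.testBit_shiftLeft, Nat.zero_testBit] at this
    have e : D + (i + s.1 - D) = i + s.1 := by omega
    rw [e] at this
    simp [hi] at this

theorem Valid.tail {D : ℕ} {s : ℕ × ℕ} {net : Net} (h : Valid D (s :: net)) : Valid D net :=
  fun t ht => h t (List.mem_cons_of_mem _ ht)

theorem Valid.mono {D D' : ℕ} {net : Net} (h : Valid D net) (hD : D ≤ D') : Valid D' net :=
  fun s hs => ⟨(h s hs).1, fun i hi => lt_of_lt_of_le ((h s hs).2 i hi) hD⟩

theorem testBit_app {D : ℕ} {net : Net} (h : Valid D net) (x i : ℕ) :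
    (app net x).testBit i = x.testBit (nperm net i) := by
  induction net generalizing x with
  | nil => rfl
  | cons s net ih =>
    have hs := (h s (by simp)).1
    rw [app_cons, ih h.tail, testBit_swp hs, nperm_cons, Equiv.Perm.mul_apply, sperm_apply hs]

theorem testBit_appInv {D : ℕ} {net : Net} (h : Valid D net) (x i : ℕ) :
    (appInv net x).testBit i = x.testBit ((nperm net)⁻¹ i) := by
  induction net generalizing i with
  | nil => rfl
  | cons s net ih =>
    have hs := (h s (by simp)).1
    rw [appInv_cons, testBit_swp hs, ih h.tail, nperm_cons, mul_inv_rev, Equiv.Perm.mul_apply, sperm_inv,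
      sperm_apply hs]

theorem testBit_appInv_apply {D : ℕ} {net : Net} (h : Valid D net) (x i : ℕ) :
    (appInv net x).testBit (nperm net i) = x.testBit i := by
  rw [testBit_appInv h]; simp

theorem nperm_of_le {D : ℕ} {net : Net} (h : Valid D net) {i : ℕ} (hi : D ≤ i) : nperm net i = i := by
  induction net with
  | nil => rfl
  | cons s net ih =>
    obtain ⟨hs, hs2⟩ := h s (by simp)
    rw [nperm_cons, Equiv.Perm.mul_apply, ih h.tail, sperm_apply hs]
    unfold spos
    rw [if_neg, if_neg]
    · rintro ⟨h1, h2⟩
      have := hs2 _ h2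
      omega
    · intro h1
      have := hs2 _ h1
      omega

theorem nperm_lt {D : ℕ} {net : Net} (h : Valid D net) {i : ℕ} (hi : i < D) : nperm net i < D := by
  by_contra hc
  have h1 := nperm_of_le h (not_lt.1 hc)
  have := (nperm net).injective h1
  omega

theorem nperm_inv_lt {D : ℕ} {net : Net} (h : Valid D net) {i : ℕ} (hi : i < D) : (nperm net)⁻¹ i < D := by
  by_contra hc
  have h1 := nperm_of_le h (not_lt.1 hc)
  simp only [Equiv.Perm.coe_inv, Equiv.apply_symm_apply] at h1 hc
  omega

/-! ### Repetition of a bit vector in blocks of length `D` -/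

/-- `2 ^ j` copies of the bit vector `m`, in consecutive blocks of length `D`. -/
noncomputable def rep (j D m : ℕ) : ℕ :=
  Nat.rec m (fun i acc => Nat.lor acc (Nat.shiftLeft acc (Nat.shiftLeft D i))) j

theorem rep_succ (j D m : ℕ) : rep (j + 1) D m = rep j D m ||| (rep j D m <<< (D <<< j)) := rfl

theorem testBit_rep {D m : ℕ} (hm : ∀ i, m.testBit i = true → i < D) (j a : ℕ) {i : ℕ} (hi : i < D) :
    (rep j D m).testBit (a * D + i) = (decide (a < 2 ^ j) && m.testBit i) := by
  induction j generalizing a with
  | zero =>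
    change m.testBit (a * D + i) = _
    rcases Nat.eq_zero_or_pos a with rfl | ha
    · simp
    · have : m.testBit (a * D + i) = false := by
        cases h : m.testBit (a * D + i)
        · rfl
        · have h1 := hm _ h
          have : D ≤ a * D := Nat.le_mul_of_pos_left D ha
          omega
      rw [this]
      have : ¬ a < 2 ^ 0 := by simp; omega
      simp only [this, decide_false, Bool.false_and]
  | succ j ih =>
    rw [rep_succ, Nat.testBit_or, Nat.testBit_shiftLeft, ih, Nat.shiftLeft_eq]
    by_cases h1 : a < 2 ^ j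
    · have h2 : ¬ (a * D + i ≥ D * 2 ^ j) := by
        have : (a + 1) * D ≤ 2 ^ j * D := Nat.mul_le_mul_right D h1
        rw [mul_comm D]
        nlinarith
      have h3 : a < 2 ^ (j + 1) := by rw [pow_succ]; omega
      simp [h1, h2, h3]
    · obtain ⟨b, rfl⟩ := Nat.exists_eq_add_of_le (not_lt.1 h1)
      have h2 : (2 ^ j + b) * D + i ≥ D * 2 ^ j := by nlinarith
      have h3 : (2 ^ j + b) * D + i - D * 2 ^ j = b * D + i := by
        rw [add_mul, mul_comm D, add_assoc, Nat.add_sub_cancel_left]
      rw [h3, ih]
      have h4 : (2 ^ j + b < 2 ^ (j + 1)) ↔ b < 2 ^ j := by rw [pow_succ]; omega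
      simp [h1, h2, h4]

theorem exists_block {D : ℕ} (hD : 0 < D) (n : ℕ) : ∃ a i, i < D ∧ n = a * D + i :=
  ⟨n / D, n % D, Nat.mod_lt _ hD, by rw [mul_comm]; exact (Nat.div_add_mod n D).symm⟩

/-- The network acting like `net` on each of `2 ^ j` consecutive blocks of length `D`. -/
noncomputable def repNet (j D : ℕ) (net : Net) : Net :=
  List.rec (motive := fun _ => Net) [] (fun s _ ih => (s.1, rep j D s.2) :: ih) net

theorem repNet_cons (j D : ℕ) (s : ℕ × ℕ) (net : Net) :
    repNet j D (s :: net) = (s.1, rep j D s.2) :: repNet j D net := rfl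

section stage
variable {D δ m : ℕ} (h1 : SDisj δ m) (h2 : ∀ i, m.testBit i = true → i + δ < D) (j : ℕ)
include h2

theorem rep_bound (n : ℕ) (hn : (rep j D m).testBit n = true) :
    ∃ a i, a < 2 ^ j ∧ i + δ < D ∧ n = a * D + i ∧ m.testBit i = true := by
  rcases Nat.eq_zero_or_pos D with rfl | hD
  · have hm : m = 0 := Nat.eq_of_testBit_eq fun i => by
      cases h : m.testBit i
      · simp
      · have := h2 i h; omega
    subst hm
    have : ∀ j, rep j 0 0 = 0 := fun j => by
      induction j with
      | zero => rfl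
      | succ j ih => rw [rep_succ, ih]; simp
    rw [this] at hn
    simp at hn
  obtain ⟨a, i, hi, rfl⟩ := exists_block hD n
  rw [testBit_rep (fun i hi => lt_of_le_of_lt (Nat.le_add_right i δ) (h2 i hi)) j a hi] at hn
  simp only [Bool.and_eq_true, decide_eq_true_eq] at hn
  exact ⟨a, i, hn.1, h2 i hn.2, rfl, hn.2⟩

include h1 in
theorem sdisj_rep : SDisj δ (rep j D m) := by
  intro n hn
  obtain ⟨a, i, ha, hi, rfl, hm⟩ := rep_bound h2 j n hn
  rw [add_assoc, testBit_rep (fun i hi => lt_of_le_of_lt (Nat.le_add_right i δ) (h2 i hi)) j a hi, h1 i hm]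
  simp

theorem spos_rep {a i : ℕ} (ha : a < 2 ^ j) (hi : i < D) :
    spos δ (rep j D m) (a * D + i) = a * D + spos δ m i := by
  have hm : ∀ i, m.testBit i = true → i < D := fun i hi => lt_of_le_of_lt (Nat.le_add_right i δ) (h2 i hi)
  unfold spos
  rw [testBit_rep hm j a hi]
  simp only [ha, decide_true, Bool.true_and]
  by_cases h3 : m.testBit i = true
  · rw [if_pos h3, if_pos h3, add_assoc]
  rw [if_neg h3, if_neg h3]
  by_cases h4 : δ ≤ i
  · have e : a * D + i - δ = a * D + (i - δ) := by omega
    rw [e, testBit_rep hm j a (by omega)]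
    simp only [ha, decide_true, Bool.true_and, h4, true_and]
    have h5 : δ ≤ a * D + i := by omega
    simp only [h5, true_and]
    split_ifs <;> rfl
  · rw [if_neg (show ¬ (δ ≤ i ∧ m.testBit (i - δ) = true) from fun h => h4 h.1), if_neg]
    rintro ⟨h5, h6⟩
    obtain ⟨b, i', -, hi', e, -⟩ := rep_bound h2 j _ h6
    have e2 : a * D + i = b * D + (i' + δ) := by omega
    have hD : 0 < D := by omega
    have e3 : (a * D + i) % D = i := by rw [mul_comm, Nat.mul_add_mod, Nat.mod_eq_of_lt hi]
    rw [e2, mul_comm, Nat.mul_add_mod, Nat.mod_eq_of_lt hi'] at e3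
    omega

end stage

theorem Valid.repNet {D : ℕ} {net : Net} (h : Valid D net) (j : ℕ) : Valid (2 ^ j * D) (repNet j D net) := by
  induction net with
  | nil => intro s hs; exact absurd hs (by simp [BN.repNet])
  | cons s net ih =>
    obtain ⟨hs, hs2⟩ := h s (by simp)
    rw [repNet_cons]
    intro t ht
    rcases List.mem_cons.1 ht with rfl | ht
    · refine ⟨sdisj_rep hs hs2 j, fun n hn => ?_⟩
      obtain ⟨a, i, ha, hi, rfl, -⟩ := rep_bound hs2 j n hn
      have : (a + 1) * D ≤ 2 ^ j * D := Nat.mul_le_mul_right D ha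
      change a * D + i + s.1 < _
      nlinarith
    · exact ih h.tail t ht

theorem nperm_repNet {D : ℕ} {net : Net} (h : Valid D net) (j : ℕ) {a i : ℕ} (ha : a < 2 ^ j) (hi : i < D) :
    nperm (repNet j D net) (a * D + i) = a * D + nperm net i := by
  induction net with
  | nil => rfl
  | cons s net ih =>
    obtain ⟨hs, hs2⟩ := h s (by simp)
    rw [repNet_cons, nperm_cons, nperm_cons, Equiv.Perm.mul_apply, Equiv.Perm.mul_apply, ih h.tail,
      sperm_apply (s := (s.1, rep j D s.2)) (sdisj_rep hs hs2 j), sperm_apply hs]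
    exact spos_rep hs2 j ha (nperm_lt h.tail hi)

theorem testBit_app_repNet {D : ℕ} {net : Net} (h : Valid D net) (j x : ℕ) {a i : ℕ} (ha : a < 2 ^ j)
    (hi : i < D) : (app (repNet j D net) x).testBit (a * D + i) = x.testBit (a * D + nperm net i) := by
  rw [testBit_app (h.repNet j), nperm_repNet h j ha hi]

end Cfsg.Agent.Spor.BN
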